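import Mathlib

/-!
# `H¹` of the cotangent complex and a finite monogenic étale extension
-/

set_option autoImplicit false
set_option backward.isDefEq.respectTransparency false
set_option backward.defeqAttrib.useBackward true
set_option linter.style.haveILetI false

universe u

open Algebra Polynomial TensorProduct

namespace Groth.Agent.H1EtaleLib

theorem bijective_h1Map (R S T : Type u) [CommRing R] [CommRing S] [CommRing T] [Algebra R S]
    [Algebra S T] [Algebra R T] [IsScalarTower R S T] [Module.Flat S T] [Nontrivial S] (α : T) (f : S[X])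
    (hf : f.Monic) (hα : aeval α f = 0) (hu : IsUnit (aeval α f.derivative))
    (hgen : Function.Surjective (aeval (R := S) α)) (hker : ∀ p : S[X], aeval α p = 0 → f ∣ p) :
    Function.Bijective ((Algebra.H1Cotangent.map R R S T).liftBaseChange T) := by
  let P : Extension R S := (Generators.self R S).toExtension
  letI := ((algebraMap S T).comp (algebraMap P.Ring S)).toAlgebra
  haveI : IsScalarTower P.Ring S T := .of_algebraMap_eq' rfl
  haveI : IsScalarTower R P.Ring T := .of_algebraMap_eq fun r => by
    rw [IsScalarTower.algebraMap_apply R S T r, IsScalarTower.algebraMap_apply R P.Ring S r]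
    rfl
  obtain ⟨F, hFf, -, hF⟩ := lifts_and_degree_eq_and_monic (f := algebraMap P.Ring S)
    (p := f) ((lifts_iff_coeff_lifts f).2 fun n => P.algebraMap_surjective _) hf
  let E : StandardEtalePair P.Ring := ⟨F, hF, F.derivative, 1, 0, 1, by simp⟩
  have hev : ∀ G : P.Ring[X], aeval α G = aeval α (G.map (algebraMap P.Ring S)) := fun G =>
    (aeval_map_algebraMap S α G).symm
  have hmap : E.HasMap α := ⟨by rw [show E.f = F from rfl, hev, hFf, hα],
    by rw [show E.g = F.derivative from rfl, hev, ← derivative_map, hFf]; exact hu⟩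
  let φ : E.Ring →ₐ[P.Ring] T := E.lift α hmap
  letI : Algebra R E.Ring := ((algebraMap P.Ring E.Ring).comp (algebraMap R P.Ring)).toAlgebra
  haveI : IsScalarTower R P.Ring E.Ring := .of_algebraMap_eq' rfl
  have hφs : Function.Surjective (φ.restrictScalars R) := by
    intro t
    obtain ⟨p, rfl⟩ := hgen t
    obtain ⟨G, rfl⟩ := Polynomial.map_surjective (algebraMap P.Ring S) P.algebraMap_surjective p
    refine ⟨aeval E.X G, ?_⟩
    show φ (aeval E.X G) = _
    rw [← aeval_algHom_apply, ← hev]
    simp [φ]
  letI Q : Extension R T := .ofSurjective (φ.restrictScalars R) hφs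
  letI h : P.Hom Q :=
  { toRingHom := algebraMap P.Ring E.Ring
    toRingHom_algebraMap x := (IsScalarTower.algebraMap_apply R P.Ring E.Ring x).symm
    algebraMap_toRingHom x := φ.commutes x }
  haveI : FormallySmooth R P.Ring := inferInstanceAs (FormallySmooth R (MvPolynomial _ _))
  haveI : FormallySmooth R Q.Ring := FormallySmooth.comp R P.Ring E.Ring
  letI : Algebra P.Ring Q.Ring := (inferInstance : Algebra P.Ring E.Ring)
  haveI : Module.Flat P.Ring Q.Ring := inferInstanceAs (Module.Flat P.Ring E.Ring)
  haveI : FormallyEtale P.Ring Q.Ring := inferInstanceAs (FormallyEtale P.Ring E.Ring)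
  let I : Ideal E.Ring := P.ker.map (algebraMap P.Ring E.Ring)
  have hI : ∀ y : E.Ring, φ y = 0 → y ∈ I := by
    have hlift : ∀ s ∈ RingHom.ker (algebraMap P.Ring S), algebraMap P.Ring (E.Ring ⧸ I) s = 0 := fun s hs =>
      Ideal.Quotient.eq_zero_iff_mem.2 (Ideal.mem_map_of_mem _ hs)
    let ρ : S →+* E.Ring ⧸ I :=
      (algebraMap P.Ring S).liftOfSurjective P.algebraMap_surjective ⟨algebraMap P.Ring (E.Ring ⧸ I), hlift⟩
    have hρ : ρ.comp (algebraMap P.Ring S) = algebraMap P.Ring (E.Ring ⧸ I) :=
      (algebraMap P.Ring S).liftOfSurjective_comp _ _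
    let x : E.Ring ⧸ I := Ideal.Quotient.mk I E.X
    have hx : f.eval₂ ρ x = 0 := by
      rw [← hFf, eval₂_map, hρ]
      show aeval x F = 0
      exact (aeval_algHom_apply (Ideal.Quotient.mkₐ P.Ring I) E.X F).trans
        (by rw [show aeval E.X F = 0 from E.hasMap_X.1, map_zero])
    let e : AdjoinRoot f →ₐ[S] T := AdjoinRoot.liftAlgHom f (Algebra.ofId S T) α
      (by exact hα)
    have he : Function.Bijective e := by
      refine ⟨(injective_iff_map_eq_zero e).2 fun z hz => ?_, fun t => ?_⟩
      · obtain ⟨p, rfl⟩ := AdjoinRoot.mk_surjective z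
        exact AdjoinRoot.mk_eq_zero.2 (hker p (by simpa [e, aeval_def] using hz))
      · obtain ⟨p, rfl⟩ := hgen t
        exact ⟨AdjoinRoot.mk f p, by simp [e, aeval_def]⟩
    let ei := AlgEquiv.ofBijective e he
    let σ₀ : T →+* E.Ring ⧸ I := (AdjoinRoot.lift ρ x hx).comp ei.symm.toRingEquiv.toRingHom
    have hσS : ∀ s : S, σ₀ (algebraMap S T s) = ρ s := fun s => by
      show AdjoinRoot.lift ρ x hx (ei.symm (algebraMap S T s)) = _
      rw [ei.symm.commutes, AdjoinRoot.algebraMap_eq, AdjoinRoot.lift_of]
    let σ : T →ₐ[P.Ring] E.Ring ⧸ I := { σ₀ with commutes' := fun p => (hσS _).trans (congr($hρ p)) }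
    have hσα : σ α = x := by
      have : ei (AdjoinRoot.root f) = α := by simp [ei, e]
      show AdjoinRoot.lift ρ x hx (ei.symm α) = _
      rw [← this, ei.symm_apply_apply, AdjoinRoot.lift_root]
    have hcomp : σ.comp φ = Ideal.Quotient.mkₐ P.Ring I :=
      E.hom_ext (by simp [φ, hσα, x])
    intro y hy
    have := congr($hcomp y)
    rw [AlgHom.comp_apply, hy, map_zero] at this
    exact Ideal.Quotient.eq_zero_iff_mem.1 this.symm
  have H₂ : Function.Bijective ((h.mapKer rfl).liftBaseChange Q.Ring) := by
    let L := (h.mapKer rfl).liftBaseChange Q.Ring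
    have hL : ∀ z, ((L z : Q.ker) : Q.Ring) =
        TensorProduct.rid P.Ring Q.Ring (LinearMap.lTensor Q.Ring P.ker.subtype z) := by
      intro z
      induction z with
      | zero => simp
      | add a b ha hb => rw [map_add, map_add, map_add, Submodule.coe_add, ha, hb]
      | tmul a b =>
        simp only [L, LinearMap.liftBaseChange_tmul, LinearMap.lTensor_tmul, TensorProduct.rid_tmul,
          SetLike.val_smul, smul_eq_mul, Algebra.smul_def]
        exact mul_comm _ _
    refine ⟨fun a b hab => ?_, fun y => ?_⟩
    · refine Module.Flat.lTensor_preserves_injective_linearMap (M := Q.Ring) _ P.ker.injective_subtype ?_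
      exact (TensorProduct.rid P.Ring Q.Ring).injective
        (by rw [← hL, ← hL]; exact congrArg Subtype.val hab)
    · have hy : y.1 ∈ I := hI y.1 y.2
      suffices ∀ z ∈ I, ∀ hz : (z : Q.Ring) ∈ Q.ker, ∃ w, L w = ⟨z, hz⟩ from this _ hy y.2
      intro z hz
      refine Submodule.span_induction ?_ ?_ ?_ ?_ hz
      · rintro _ ⟨p, hp, rfl⟩ _
        exact ⟨1 ⊗ₜ ⟨p, hp⟩, Subtype.ext (by rw [hL]; simp [Algebra.smul_def]; rfl)⟩
      · exact fun _ => ⟨0, Subtype.ext (by rw [map_zero]; rfl)⟩
      · intro a b ha hb iha ihb _
        have hmem : ∀ c ∈ I, (c : Q.Ring) ∈ Q.ker := by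
          intro c hc
          refine Submodule.span_induction ?_ ?_ ?_ ?_ hc
          · rintro _ ⟨p, hp, rfl⟩
            show φ (algebraMap P.Ring E.Ring p) = 0
            rw [φ.commutes, IsScalarTower.algebraMap_apply P.Ring S T, show algebraMap P.Ring S p = 0 from hp, map_zero]
          · exact zero_mem _
          · exact fun a b _ _ => add_mem
          · exact fun c a _ ha => Ideal.mul_mem_left _ c ha
        obtain ⟨wa, hwa⟩ := iha (hmem a ha)
        obtain ⟨wb, hwb⟩ := ihb (hmem b hb)
        exact ⟨wa + wb, Subtype.ext (by rw [map_add, hwa, hwb]; rfl)⟩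
      · intro c a ha iha _
        have hmem : (a : Q.Ring) ∈ Q.ker := by
          refine Submodule.span_induction ?_ ?_ ?_ ?_ ha
          · rintro _ ⟨p, hp, rfl⟩
            show φ (algebraMap P.Ring E.Ring p) = 0
            rw [φ.commutes, IsScalarTower.algebraMap_apply P.Ring S T, show algebraMap P.Ring S p = 0 from hp, map_zero]
          · exact zero_mem _
          · exact fun a b _ _ => add_mem
          · exact fun c a _ ha => Ideal.mul_mem_left _ c ha
        obtain ⟨wa, hwa⟩ := iha hmem
        exact ⟨(show Q.Ring from c) • wa, Subtype.ext (by rw [map_smul, hwa]; rfl)⟩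
  have hbij : Function.Bijective ((Extension.H1Cotangent.map h).liftBaseChange T) :=
    (Extension.tensorH1CotangentOfFormallyEtale h rfl
      (RingHom.formallyEtale_algebraMap.mpr inferInstance) H₂).bijective
  -- compare with the standard generators
  letI d : (Generators.self R T).toExtension.Hom Q :=
  { toRingHom := (MvPolynomial.aeval Q.σ).toRingHom
    toRingHom_algebraMap := (MvPolynomial.aeval Q.σ).commutes
    algebraMap_toRingHom := by
      have : (IsScalarTower.toAlgHom R Q.Ring T).comp (MvPolynomial.aeval Q.σ) =
          IsScalarTower.toAlgHom _ (Generators.self R T).toExtension.Ring _ := by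
        ext i
        change _ = algebraMap (Generators.self R T).Ring _ (.X i)
        simp
      exact DFunLike.congr_fun this }
  haveI : FormallySmooth R (Generators.self R T).toExtension.Ring :=
    inferInstanceAs (FormallySmooth R (MvPolynomial _ _))
  have hd : Function.Bijective (Extension.H1Cotangent.map d) := by
    have : ⇑(Extension.H1Cotangent.map d) =
        Extension.H1Cotangent.equivOfFormallySmooth (Generators.self R T).toExtension Q :=
      funext fun x => (Extension.H1Cotangent.equivOfFormallySmooth_apply d x).symm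
    rw [this]
    exact LinearEquiv.bijective _
  have hfac : (Extension.H1Cotangent.map d).comp ((Algebra.H1Cotangent.map R R S T).liftBaseChange T) =
      (Extension.H1Cotangent.map h).liftBaseChange T := by
    ext x : 3
    simp only [AlgebraTensorModule.curry_apply, TensorProduct.curry_apply, LinearMap.coe_restrictScalars,
      LinearMap.coe_comp, Function.comp_apply, LinearMap.liftBaseChange_tmul, one_smul]
    rw [Algebra.H1Cotangent.map, ← (Extension.H1Cotangent.map d).coe_restrictScalars S,
      ← LinearMap.comp_apply, ← Extension.H1Cotangent.map_comp, Extension.H1Cotangent.map_eq _ h]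
    exact ((LinearMap.liftBaseChange_tmul T (Extension.H1Cotangent.map h) 1 x).trans (one_smul T _)).symm
  rw [← hfac, LinearMap.coe_comp] at hbij
  exact (Function.Bijective.of_comp_iff' hd _).1 hbij

end Groth.Agent.H1EtaleLib
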